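import Groth.Agent.L20.Pinch.Cases
import Groth.Agent.L20.Pinch.Sep
import Mathlib.AlgebraicGeometry.ZariskisMainTheorem

/-!
# The double of a scheme along a closed subscheme
-/

set_option autoImplicit false
set_option linter.style.haveILetI false
set_option backward.isDefEq.respectTransparency.types false

universe u

open CategoryTheory CategoryTheory.Limits AlgebraicGeometry Opposite

namespace Groth.L28.Double

variable {Y D : Scheme.{u}} [IsLocallyNoetherian Y] (i : D ⟶ Y) [IsClosedImmersion i]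

open Groth.L20.Pinch in
/-- Two copies of `Y` glued along `D`: a finite `Y`-scheme with two closed sections `s`, `t`, the second one
being an open immersion away from `D`. -/
theorem exists_double : ∃ (Z : Scheme.{u}) (π : Z ⟶ Y) (s t : Y ⟶ Z) (_ : IsFinite π) (_ : IsClosedImmersion s),
    s ≫ π = 𝟙 Y ∧ t ≫ π = 𝟙 Y ∧ t '' (Set.range i)ᶜ = (Set.range s)ᶜ ∧
      ∀ {S : Scheme.{u}} (v : S ⟶ Y) [IsOpenImmersion v], Set.range v ⊆ (Set.range i)ᶜ → IsOpenImmersion (v ≫ t) := by
  obtain ⟨Z, t, s, h⟩ :=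
    (std_of_isIntegralHom (exists_affine_of_isClosedImmersion (i := i) (j := i))).exists_isPinch
  obtain ⟨π, hπt, hπs⟩ := h.exists_desc (𝟙 Y) (𝟙 Y) rfl
  haveI := h.isClosedImmersion_b
  haveI := h.isFinite_a
  have hdisj : ∀ y y' : Y, t y = s y' → y ∈ Set.range i := fun y y' e => by
    obtain ⟨d, hd, -⟩ := Scheme.Pullback.exists_preimage_pullback (f := t) (g := s) y y' e
    refine ⟨h.isPullback.isoPullback.inv d, ?_⟩
    rw [← hd, ← Scheme.Hom.comp_apply, h.isPullback.isoPullback_inv_fst]
  have himg : t '' (Set.range i)ᶜ = (Set.range s)ᶜ := by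
    refine Set.Subset.antisymm ?_ fun z hz => ?_
    · rintro _ ⟨y, hy, rfl⟩ ⟨y', hy'⟩
      exact hy (hdisj y y' hy'.symm)
    · rcases h.exists_preimage z with hzs | ⟨y, rfl⟩
      · exact absurd hzs hz
      · refine ⟨y, fun ⟨d, hd⟩ => hz ⟨y, ?_⟩, rfl⟩
        rw [← hd, ← Scheme.Hom.comp_apply, ← Scheme.Hom.comp_apply, h.comm]
  haveI : LocallyOfFiniteType (t ≫ π) := by rw [hπt]; infer_instance
  haveI : LocallyOfFiniteType (s ≫ π) := by rw [hπs]; infer_instance
  haveI : LocallyOfFiniteType π := h.locallyOfFiniteType π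
  haveI : IsSeparated π := isSeparated_of_cover h.exists_preimage hπt hπs
  haveI : QuasiCompact π := quasiCompact_of_cover h.exists_preimage hπt hπs
  haveI : UniversallyClosed π := universallyClosed_of_cover h.exists_preimage hπt hπs
  haveI : IsProper π := {}
  haveI : LocallyQuasiFinite π := LocallyQuasiFinite.of_finite_preimage_singleton π fun y =>
    (Set.toFinite ({t y, s y} : Set Z)).subset fun z hz => by
      rcases h.exists_preimage z with ⟨y', rfl⟩ | ⟨y', rfl⟩
      · refine Or.inr ?_
        have : (s ≫ π) y' = y := (Scheme.Hom.comp_apply _ _ _).trans hz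
        rw [hπs] at this
        exact congrArg s this
      · refine Or.inl ?_
        have : (t ≫ π) y' = y := (Scheme.Hom.comp_apply _ _ _).trans hz
        rw [hπt] at this
        exact congrArg t this
  haveI : IsFinite π := IsFinite.of_isProper_of_locallyQuasiFinite π
  refine ⟨Z, π, s, t, inferInstance, inferInstance, hπs, hπt, himg, fun {S} v _ hv => ?_⟩
  let O : Z.Opens := ⟨(Set.range s)ᶜ, s.isClosedEmbedding.isClosed_range.isOpen_compl⟩
  haveI : IsIso (t ∣_ O) := by
    choose k u hu hp hX hY hXr hYr hle using fun p : O.toScheme => h.exists_chart_le O p.1 p.2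
    have hiso : ∀ p, IsIso (k p).inX := fun p => by
      have hV : (k p).V = ⊥ := by
        refine TopologicalSpace.Opens.ext (Set.eq_empty_iff_forall_notMem.mpr fun y hy => ?_)
        rw [← hYr p] at hy
        exact hle p hy ⟨y, rfl⟩
      haveI : Subsingleton Γ(Y, (k p).V) := by
        rw [hV]; exact CommRingCat.subsingleton_of_isTerminal Y.sheaf.isTerminalOfEmpty
      haveI : Subsingleton Γ(D, i ⁻¹ᵁ (k p).U) := by
        rw [(k p).eq, hV]
        exact CommRingCat.subsingleton_of_isTerminal D.sheaf.isTerminalOfEmpty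
      haveI : IsIso (CommRingCat.ofHom (k p).p2) := by
        refine (ConcreteCategory.isIso_iff_bijective _).2 ⟨fun a b e => ?_, fun x => ?_⟩
        · exact (k p).isFib.ext (Subsingleton.elim _ _) e
        · exact ⟨⟨(0, x), Subsingleton.elim _ _⟩, rfl⟩
      exact inferInstanceAs (IsIso (Spec.map (CommRingCat.ofHom (k p).p2)))
    let 𝒰 : O.toScheme.OpenCover :=
      { I₀ := O.toScheme
        X := fun p => (k p).spec
        f := fun p => IsOpenImmersion.lift O.ι (u p) (by rw [Scheme.Opens.range_ι]; exact hle p)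
        mem₀ := (Scheme.ofArrows_mem_precoverage_iff _).mpr ⟨fun p => by
          obtain ⟨q, hq⟩ := hp p
          refine ⟨p, q, O.ι.isOpenEmbedding.injective ?_⟩
          rw [← Scheme.Hom.comp_apply, IsOpenImmersion.lift_fac]
          exact hq, fun p => by
            haveI := hu p
            exact IsOpenImmersion.of_comp _ O.ι⟩ }
    refine IsZariskiLocalAtTarget.of_openCover (P := MorphismProperty.isomorphisms Scheme.{u}) 𝒰 fun p => ?_
    haveI := hu p
    have h1 : IsPullback (k p).inX (k p).hU.fromSpec (u p) t := IsPinch.isPullback_chartX (hX p) (hXr p)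
    have h2 : IsPullback (pullback.snd (t ∣_ O) (𝒰.f p)) (pullback.fst (t ∣_ O) (𝒰.f p) ≫ (t ⁻¹ᵁ O).ι) (u p) t := by
      rw [← IsOpenImmersion.lift_fac O.ι (u p) (by rw [Scheme.Opens.range_ι]; exact hle p)]
      exact (IsPullback.of_hasPullback (t ∣_ O) (𝒰.f p)).flip.paste_vert (isPullback_morphismRestrict t O)
    show IsIso (pullback.snd (t ∣_ O) (𝒰.f p))
    haveI := hiso p
    rw [← h2.isoIsPullback_hom_fst _ _ h1]
    infer_instance
  have hv' : Set.range v ⊆ Set.range (t ⁻¹ᵁ O).ι := by
    rw [Scheme.Opens.range_ι]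
    rintro y hy ⟨y', hy'⟩
    exact hv hy (hdisj y y' hy'.symm)
  rw [← IsOpenImmersion.lift_fac (t ⁻¹ᵁ O).ι v hv', Category.assoc, ← morphismRestrict_ι]
  haveI : IsOpenImmersion (IsOpenImmersion.lift (t ⁻¹ᵁ O).ι v hv' ≫ (t ⁻¹ᵁ O).ι) := by
    rw [IsOpenImmersion.lift_fac]; infer_instance
  haveI := IsOpenImmersion.of_comp (IsOpenImmersion.lift (t ⁻¹ᵁ O).ι v hv') (t ⁻¹ᵁ O).ι
  infer_instance

end Groth.L28.Double
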