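import Groth.Agent.L28.Double.Const
import Groth.Agent.L28.EtCartan.ArtinSchreier
import Groth.Agent.L28.EtCartan.ZarGa
import Groth.Agent.L17.AffinePush
import Groth.Agent.L18.DirImg
import Groth.Agent.L19.ConormalAffine
import Groth.Prelude.Def_Dix

/-!
# The `p`-cohomological dimension in characteristic `p`
-/

set_option autoImplicit false
set_option linter.style.haveILetI false
set_option linter.unusedSectionVars false
set_option backward.isDefEq.respectTransparency.types false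

universe u

open CategoryTheory CategoryTheory.Limits AlgebraicGeometry Opposite

noncomputable section

namespace Groth.L28.Double

open Groth.L27 Groth.L28.Devissage

theorem subsingleton_H_const_charP (p : ℕ) [hp : Fact p.Prime] {X Z : Scheme.{u}} (π : Z ⟶ X) [IsAffineHom π]
    (h0 : (p : Γ(Z, ⊤)) = 0) (d : ℕ)
    (hqc : ∀ M : X.Modules, Coh.IsQCoh M → ∀ q : ℕ, d < q → Subsingleton (Coh.HH X M q)) (q : ℕ) (hq : d + 1 < q) :
    Subsingleton (EtCoh.H Z (EtCoh.const Z (ZMod p)) q) := by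
  haveI : Coh.IsQCoh (Coh.structureModule Z) := Groth.L19.Conormal.isQCoh_structureModule Z
  have hG : ∀ m, d < m → Subsingleton (EtCoh.H Z (EtCoh.Ga Z) m) := fun m hm => by
    obtain ⟨e₁⟩ := EtCartan.nonempty_H_Ga Z m
    obtain ⟨e₂⟩ := Groth.L17.nonempty_HH_push_of_isAffineHom π (Coh.structureModule Z) m
    haveI := hqc _ (Groth.L18.DirImg.isQCoh_push π _ ‹_›) m hm
    exact (e₁.trans e₂).injective.subsingleton
  obtain ⟨m, rfl⟩ : ∃ m, q = m + 1 := ⟨q - 1, by omega⟩
  have hT := EtCartan.shortExact_asSeq (X := Z) p h0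
  refine subsingleton_of_forall_eq 0 fun x => ?_
  obtain ⟨y, rfl⟩ := Abelian.Ext.covariant_sequence_exact₁ _ hT x ((hG (m + 1) (by omega)).elim _ _) rfl
  exact (congrArg (fun z => Abelian.Ext.comp z hT.extClass rfl) ((hG m (by omega)).elim y 0)).trans
    (Abelian.Ext.zero_comp _ _ _ _ _)

theorem isLTorsion_of_isPrimaryTorsion {X : Scheme.{u}} {ℓ : ℕ} (hℓ : ℓ.Prime) {F : EtCoh.Ab X}
    (hF : Dix.IsPrimaryTorsion ℓ F) : EtAcyc.IsLTorsion {ℓ} F := fun U s x => by
  obtain ⟨V, g, hv, k, hk⟩ := hF U s x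
  exact ⟨V, g, ℓ ^ k, hv, FinCovCrit.primesIn_pow hℓ k, hk⟩

theorem cohDimLEAt_succ (p : ℕ) [hp : Fact p.Prime] (X : Scheme.{u}) [IsNoetherian X] (h0 : (p : Γ(X, ⊤)) = 0)
    (d : ℕ) (hqc : ∀ M : X.Modules, Coh.IsQCoh M → ∀ q : ℕ, d < q → Subsingleton (Coh.HH X M q)) :
    Dix.CohDimLEAt X p (d + 1) := by
  haveI : NeZero p := ⟨hp.out.ne_zero⟩
  intro F hF q hq
  refine Devissage.torsion hp.out q (constVan_of_const X p q fun Z π _ => subsingleton_H_const_charP p π ?_ d hqc q hq)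
    F (isLTorsion_of_isPrimaryTorsion hp.out hF)
  rw [← map_natCast π.appTop.hom, h0, map_zero]

end Groth.L28.Double
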