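import Groth.Agent.L28.Double.Basic
import Groth.Agent.L28.Devissage.Closed
import Groth.Agent.L27.NormalSepClosed.ConstSect

/-!
# Extensions by zero of constant sheaves are retracts of direct images of constant sheaves
-/

set_option autoImplicit false
set_option linter.style.haveILetI false
set_option linter.unusedSectionVars false
set_option backward.isDefEq.respectTransparency.types false

universe u

open CategoryTheory CategoryTheory.Limits AlgebraicGeometry Opposite

noncomputable section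

namespace Groth.L28.Double

open Groth.L27 Groth.L28.Devissage

variable {X Y : Scheme.{u}} (A : AddCommGrpCat.{u + 1})

theorem hom_ext_cst {G : EtCoh.Ab X} {φ ψ : ConstSect.K A X ⟶ G}
    (h : ∀ (U : X.Etale) (a : A), φ.hom.app (op U) (ConstSect.cst A U a) = ψ.hom.app (op U) (ConstSect.cst A U a)) :
    φ = ψ :=
  ObjectProperty.hom_ext _ (sheafify_hom_ext _ _ _ G.property
    (NatTrans.ext (funext fun U => AddCommGrpCat.ext fun a => h U.unop a)))

theorem isIso_cmp_id : IsIso (ConstSect.cmp A (𝟙 X)) := by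
  haveI : IsIso ((EtCoh.pullPushAdj (𝟙 X)).unit.app (ConstSect.K A X)) :=
    (EtSite.isIso_unit_iff (𝟙 X) (EtSite.propA_of_isIntegralHom (𝟙 X)) _).2 (fun x _ => ⟨x, rfl⟩)
  rw [ConstSect.cmp]
  infer_instance

/-- Restricting constants along a composite. -/
theorem cmp_comp {Z : Scheme.{u}} (π : Z ⟶ X) (s : Y ⟶ Z) :
    ConstSect.cmp A π ≫ (EtCoh.push π).map (ConstSect.cmp A s) ≫ (EtCoh.pushComp π s).hom.app (ConstSect.K A Y) =
      ConstSect.cmp A (s ≫ π) := by
  refine hom_ext_cst A fun U a => ?_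
  show ((EtCoh.pushComp π s).hom.app (ConstSect.K A Y)).hom.app (op U)
    ((ConstSect.cmp A s).hom.app (op ((EtCoh.bc π).obj U))
      ((ConstSect.cmp A π).hom.app (op U) (ConstSect.cst A U a))) = _
  rw [ConstSect.cmp_cst, ConstSect.cmp_cst, ConstSect.cmp_cst]
  exact ConstSect.map_cst A ((MorphismProperty.Over.pullbackComp (P := _) (Q := ⊤) s π).hom.app U) a

/-- Extension by zero through a finite morphism. -/
theorem nonempty_extZero_comp {R S : Scheme.{u}} (c : R ⟶ X) [IsFinite c]
    (v' : S ⟶ R) [IsOpenImmersion v'] [EtShriek.JCont v'] [QuasiCompact v'] (v : S ⟶ X) [IsOpenImmersion v]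
    [EtShriek.JCont v] [QuasiCompact v] (w : v' ≫ c = v) (F : EtCoh.Ab S) (hF : EtCoh.IsTorsion F) :
    Nonempty ((EtShriek.extZero v).obj F ≅ (EtCoh.push c).obj ((EtShriek.extZero v').obj F)) := by
  obtain ⟨e⟩ := L27.PBC.nonempty_lowerShriek_Rpush c v (𝟙 S) v' (w.trans (Category.id_comp v).symm) F hF 0
  haveI := preservesFiniteLimits_push c
  haveI := preservesFiniteLimits_push (𝟙 S)
  exact ⟨(L27.ExtZero.shriekIso v).app _ ≪≫
      (EtShriek.lowerShriek v).mapIso (((EtCoh.push (𝟙 S)).rightDerivedZeroIsoSelf).app F ≪≫ (pushIdIso S).app F).symm ≪≫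
      e ≪≫ ((EtCoh.push c).rightDerivedZeroIsoSelf).app _ ≪≫
      (EtCoh.push c).mapIso ((L27.ExtZero.shriekIso v').app F).symm⟩

/-- Extensions by zero of constant sheaves have no more cohomology than constant sheaves on finite covers. -/
theorem constVan_of_const (X : Scheme.{u}) [IsNoetherian X] (ℓ : ℕ) [NeZero ℓ] (q : ℕ)
    (h : ∀ (Z : Scheme.{u}) (π : Z ⟶ X) [IsFinite π], Subsingleton (EtCoh.H Z (EtCoh.const Z (ZMod ℓ)) q)) :
    ConstVan X ℓ q := by
  intro Y π₀ _ S v _ _
  haveI : IsLocallyNoetherian Y := LocallyOfFiniteType.isLocallyNoetherian π₀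
  haveI : CompactSpace ↥Y := QuasiCompact.compactSpace_of_compactSpace π₀
  haveI : IsNoetherian Y := {}
  obtain ⟨D, i, _, -, hri, -⟩ := exists_reduced (Set.range v)ᶜ v.isOpenEmbedding.isOpen_range.isClosed_compl
  obtain ⟨Z, π, s, t, _, _, hsπ, htπ, himg, hopen⟩ := exists_double i
  haveI : IsLocallyNoetherian Z := LocallyOfFiniteType.isLocallyNoetherian π
  haveI : CompactSpace ↥Z := QuasiCompact.compactSpace_of_compactSpace π
  haveI : IsNoetherian Z := {}
  haveI : IsOpenImmersion (v ≫ t) := hopen v (by rw [hri, compl_compl])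
  haveI := L27.ExtZero.jCont (v ≫ t)
  have hrange : Set.range (v ≫ t) = (Set.range s)ᶜ := by
    rw [← himg, hri, compl_compl, ← Set.range_comp]; rfl
  let A : AddCommGrpCat.{u + 1} := AddCommGrpCat.of (ULift.{u + 1} (ZMod ℓ))
  obtain ⟨w, hS⟩ := L27.ExtZero.exists_shortExact_recollement (v ≫ t) s hrange (EtCoh.const Z (ZMod ℓ))
  haveI := preservesFiniteLimits_push π
  haveI := preservesFiniteColimits_push π
  have hP := hS.map_of_exact (EtCoh.push π)
  -- the map to the second copy has a section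
  let g' := (EtCoh.push π).map ((EtCoh.pullPushAdj s).unit.app (EtCoh.const Z (ZMod ℓ)))
  haveI hiso : IsIso (ConstSect.cmp A π ≫ g') := by
    have e : (ConstSect.cmp A π ≫ g') ≫ ((EtCoh.push π).map ((EtCoh.push s).map ((EtCore.pullConstIso s).hom.app A)) ≫
        (EtCoh.pushComp π s).hom.app (ConstSect.K A Y)) = ConstSect.cmp A (s ≫ π) := by
      rw [← cmp_comp A π s, Category.assoc]
      refine congrArg (ConstSect.cmp A π ≫ ·) ?_
      refine (Category.assoc _ _ _).symm.trans (congrArg (· ≫ _) ?_)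
      exact ((EtCoh.push π).map_comp _ _).symm
    haveI : IsIso (ConstSect.cmp A (s ≫ π)) := by rw [hsπ]; exact isIso_cmp_id A
    haveI : IsIso ((ConstSect.cmp A π ≫ g') ≫ ((EtCoh.push π).map ((EtCoh.push s).map ((EtCore.pullConstIso s).hom.app A)) ≫
        (EtCoh.pushComp π s).hom.app (ConstSect.K A Y))) := by rw [e]; infer_instance
    exact IsIso.of_isIso_comp_right (ConstSect.cmp A π ≫ g')
      ((EtCoh.push π).map ((EtCoh.push s).map ((EtCore.pullConstIso s).hom.app A)) ≫
        (EtCoh.pushComp π s).hom.app (ConstSect.K A Y))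
  let T := ShortComplex.Splitting.ofExactOfSection _ hP.exact (@inv _ _ _ _ (ConstSect.cmp A π ≫ g') hiso ≫ ConstSect.cmp A π)
    ((Category.assoc _ _ _).trans (@IsIso.inv_hom_id _ _ _ _ (ConstSect.cmp A π ≫ g') hiso)) hP.mono_f
  obtain ⟨e⟩ := nonempty_extZero_comp π (v ≫ t) v (by rw [Category.assoc, htπ, Category.comp_id])
    (EtCoh.const S (ZMod ℓ)) (L27.PBC.isTorsion_const _ (ZMod ℓ))
  refine of_iso (e ≪≫ (EtCoh.push π).mapIso ((EtShriek.extZero (v ≫ t)).mapIso (restrConst (v ≫ t) (ZMod ℓ)).symm)) q ?_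
  exact retract _ T.r T.f_r q (of_push π _ q (h Z (π ≫ π₀)))

end Groth.L28.Double
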